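import Cfsg.Agent.H178.IFO.Sub
import Cfsg.Agent.H989.Fx.Cls
import Cfsg.Agent.H198.IF.End
import Cfsg.Agent.H847.IF.Lift

/-!
# S5719, orthogonal groups, `q` odd, CLAIM 0 (helper178)

`claim_zero` : `V` of dimension `N ≥ 8`, `T = E Q / {±1}`: `A` contains no involution with a lift `t ∈ E Q`, `t² = 1`, whose
`-1`-space has dimension `2` or `N - 2`.

`f(t)^5 < q^(2(N-2))`, the minimal index of `Ω_(N-2)` is at least `(q-1) q^(N-6)`: so `A` contains `Ω(D^⊥)`, `D` of
dimension two; this contains a `t'` of the same kind, `D' ≤ D^⊥`, and `Ω(D^⊥)`, `Ω(D'^⊥)` generate.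
-/

set_option autoImplicit false
set_option linter.unusedSectionVars false

namespace Cfsg.Agent.H178.IFO

open QuadraticMap Module Cfsg.Agent.LieClassical.OrthCore Cfsg.Agent.LieClassical.OrthTrans
open Cfsg.Agent.H989.Gs.Gen (ap ap_mul ap_one S S_eq)
open Cfsg.Agent.H325.IF (Vm Vp mem_Vm mem_Vp)
open Cfsg.Agent.H75.OrthIdx (perp mem_perp sg sg_mem_E sg_eq sg_of_not sg_conj sg_smul_left perp_span exists_norm_perp
  exists_hyp_perp_of_rad finrank_perp_add)
open Cfsg.Agent.H209.Fxy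

variable {F V : Type*} [Field F] [AddCommGroup V] [Module F V] {Q : QuadraticForm F V}

theorem coe_S (u w : V) : ((S Q u w : ↥(E Q)) : V ≃ₗ[F] V) = sg Q u w := by
  by_cases h : Q u = 0 ∧ polar Q u w = 0
  · rw [S_eq h.1 h.2, sg_eq h.1 h.2]
    rfl
  · unfold S
    rw [dif_neg h, sg_of_not h]
    rfl

theorem sg_neg_neg (u w : V) : sg Q (-u) (-w) = sg Q u w := by
  have h1 : sg Q ((-1 : F) • u) ((-1 : F) • w) = sg Q u ((-1 : F) • (-1 : F) • w) := sg_smul_left (neg_ne_zero.2 one_ne_zero)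
  rw [neg_one_smul, neg_one_smul, neg_one_smul, neg_neg] at h1
  exact h1

/-- `t = s` on `U` -/
theorem comm_EU {t : ↥(E Q)} {U : Submodule F V} (hU : (∀ u ∈ U, ap t u = u) ∨ (∀ u ∈ U, ap t u = -u)) {b : V ≃ₗ[F] V}
    (hb : b ∈ EU Q U) : b * (t : V ≃ₗ[F] V) = (t : V ≃ₗ[F] V) * b := by
  induction hb using Subgroup.closure_induction with
  | mem g hg =>
    obtain ⟨u, hu, w, hw, rfl⟩ := hg
    have h1 := sg_conj (E_le_O t.2) u w
    have h2 : sg Q ((t : V ≃ₗ[F] V) u) ((t : V ≃ₗ[F] V) w) = sg Q u w := by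
      rcases hU with h | h
      · have e1 : (t : V ≃ₗ[F] V) u = u := h u hu
        have e2 : (t : V ≃ₗ[F] V) w = w := h w hw
        rw [e1, e2]
      · have e1 : (t : V ≃ₗ[F] V) u = -u := h u hu
        have e2 : (t : V ≃ₗ[F] V) w = -w := h w hw
        rw [e1, e2, sg_neg_neg]
    rw [h2, mul_inv_eq_iff_eq_mul] at h1
    exact h1.symm
  | one => rw [one_mul, mul_one]
  | mul a b _ _ ha hb => rw [mul_assoc, hb, ← mul_assoc, ha, mul_assoc]
  | inv a _ ha => rw [inv_mul_eq_iff_eq_mul, ← mul_assoc, ha, mul_assoc, mul_inv_cancel, mul_one]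

theorem three_le_card [Finite F] (h2 : (2 : F) ≠ 0) : 3 ≤ Nat.card F := by
  have := Fintype.ofFinite F
  have h3 := Finite.one_lt_card (α := F)
  by_contra hcon
  have h4 : Nat.card F = 2 := by omega
  apply h2
  obtain ⟨p, hp⟩ := CharP.exists F
  have h7 : p.Prime := CharP.char_is_prime F p
  have : Fact p.Prime := ⟨h7⟩
  obtain ⟨n, hn⟩ := FiniteField.card F p
  rw [← Nat.card_eq_fintype_card, h4] at hn
  have h8 : p ∣ 2 := by rw [hn.2]; exact dvd_pow_self p n.ne_zero
  have h9 : p = 2 := (Nat.prime_dvd_prime_iff_eq h7 Nat.prime_two).1 h8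
  subst h9
  exact_mod_cast CharP.cast_eq_zero F 2

section main

variable [Finite F] [FiniteDimensional F V] {T : Type*} [Group T] [Finite T] [IsSimpleGroup T]
  {A : Subgroup T} {Γ : Subgroup (MulAut T)}

/-- numbers -/
theorem num {q r k : ℕ} (hq : 3 ≤ q) (h1 : (q - 1) * q ^ (k + 2) ≤ r) (h2 : r ^ 5 < q ^ (2 * (k + 6))) : False := by
  obtain ⟨s, rfl⟩ : ∃ s, q = s + 3 := ⟨q - 3, by omega⟩
  rw [show s + 3 - 1 = s + 2 by omega] at h1
  have h3 : ((s + 2) * (s + 3) ^ (k + 2)) ^ 5 ≤ r ^ 5 := Nat.pow_le_pow_left h1 5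
  have h4 : (s + 3) ^ 2 ≤ (s + 2) ^ 5 := by
    have : (s + 2) ^ 5 = (s + 3) ^ 2 + (s ^ 5 + 10 * s ^ 4 + 40 * s ^ 3 + 79 * s ^ 2 + 74 * s + 23) := by ring
    omega
  have h5 : (s + 3) ^ (2 * (k + 6)) ≤ ((s + 2) * (s + 3) ^ (k + 2)) ^ 5 := by
    calc (s + 3) ^ (2 * (k + 6)) ≤ (s + 3) ^ (2 + 5 * (k + 2)) := Nat.pow_le_pow_right (by omega) (by omega)
      _ = (s + 3) ^ 2 * (s + 3) ^ (5 * (k + 2)) := pow_add _ _ _
      _ ≤ (s + 2) ^ 5 * (s + 3) ^ (5 * (k + 2)) := Nat.mul_le_mul_right _ h4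
      _ = _ := by rw [mul_pow, ← pow_mul, mul_comm (k + 2) 5]
  omega

/-- **(a)** `Ω(D^⊥) ≤ A` -/
theorem claim_a (h2 : (2 : F) ≠ 0) (hG : Good Q) (hN : 8 ≤ finrank F V) (π : ↥(E Q) →* T)
    (hπ : Function.Surjective π) (hker : ∀ g, π g = 1 ↔ g = 1 ∨ ∀ v, ap g v = -v) (h : IF A Γ)
    (hna : ∃ a b : T, a * b ≠ b * a) {t : ↥(E Q)} (htA : t ∈ A.comap π) (ht : t * t = 1)
    (hk : finrank F (Vm t) = 2 ∨ finrank F (Vm t) + 2 = finrank F V) {U : Submodule F V}
    (hU : (U = Vp t ∨ U = Vm t) ∧ finrank F U + 2 = finrank F V) :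
    (∀ u ∈ U, ∀ w ∈ U, Q u = 0 → polar Q u w = 0 → S Q u w ∈ A.comap π) ∧
      EU Q U ≤ (A.comap π).map (E Q).subtype := by
  obtain ⟨hUe, hUd⟩ := hU
  have hV : Finite V := Module.finite_of_finite F
  have hgl : Finite (V ≃ₗ[F] V) := Cfsg.Agent.H75.OrthIdx.finite_equiv
  set X := A.comap π with hX
  set X' := X.map (E Q).subtype with hX'
  have hUt : (∀ u ∈ U, ap t u = u) ∨ (∀ u ∈ U, ap t u = -u) := by
    rcases hUe with rfl | rfl
    · exact Or.inl fun u hu => mem_Vp.1 hu
    · exact Or.inr fun u hu => mem_Vm.1 hu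
  -- `U` is nondegenerate
  have hUn : U ⊓ perp Q U = ⊥ := by
    have hc := Cfsg.Agent.H325.IF.isCompl h2 ht
    rw [eq_bot_iff]
    rintro x ⟨hx1, hx2⟩
    rcases hUe with rfl | rfl
    · have h3 : x ∈ Vm t := (Cfsg.Agent.H325.IF.mem_Vm_iff h2 hG.nondeg ht).2 hx2
      exact hc.disjoint.le_bot ⟨h3, hx1⟩
    · have h3 : x ∈ Vp t := (Cfsg.Agent.H325.IF.mem_Vp_iff h2 hG.nondeg ht).2 hx2
      exact hc.disjoint.le_bot ⟨hx1, h3⟩
  have hcm : X'.comap (E Q).subtype = X := Subgroup.comap_map_eq_self_of_injective (Subgroup.subtype_injective _) X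
  have hBm : ((EU Q U).subgroupOf (E Q)).map (E Q).subtype = EU Q U := by
    rw [Subgroup.subgroupOf, Subgroup.map_comap_eq, Subgroup.range_subtype, inf_eq_right]
    exact EU_le_E U
  have key : EU Q U ≤ X' := by
    by_contra hcon
    have h5 : 6 ≤ finrank F U := by omega
    have h6 := mi_sub hG.nondeg h2 hUn h5 hcon
    have h7 : X'.relIndex (EU Q U) = X.relIndex ((EU Q U).subgroupOf (E Q)) := by
      rw [← hcm, Subgroup.relIndex_comap, hBm]
    have ht1 : π t ≠ 1 := by
      intro h8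
      rcases (hker t).1 h8 with rfl | h9
      · have h10 : Vm (1 : ↥(E Q)) = ⊥ := by
          rw [eq_bot_iff]
          intro x hx
          have h11 : x = -x := mem_Vm.1 hx
          have h12 : (2 : F) • x = 0 := by rw [two_smul]; nth_rewrite 1 [h11]; exact neg_add_cancel x
          exact (smul_eq_zero.1 h12).resolve_left h2
        rw [h10, finrank_bot] at hk
        omega
      · have h10 : Vm t = ⊤ := by
          rw [eq_top_iff]
          intro x _
          exact mem_Vm.2 (h9 x)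
        rw [h10, finrank_top] at hk
        omega
    have h8 := Cfsg.Agent.H847.IF.lift_E2 h hna π hπ htA ht1 (by rw [ht, map_one]) (B := (EU Q U).subgroupOf (E Q)) (by
      intro b hb
      have h9 : b * t = t * b := Subtype.ext (comm_EU hUt (Subgroup.mem_subgroupOf.1 hb))
      rw [h9])
    rw [← hX, ← h7] at h8
    have h9 := Cfsg.Agent.H989.Fx.cls_le h2 hG (by omega) ht rfl
    obtain ⟨k, hkk⟩ : ∃ k, finrank F V = k + 8 := ⟨finrank F V - 8, by omega⟩
    have h10 : finrank F (Vm t) * (finrank F V - finrank F (Vm t)) = 2 * (k + 6) := by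
      rcases hk with h11 | h11
      · rw [h11, hkk, show k + 8 - 2 = k + 6 by omega]
      · have h12 : finrank F (Vm t) = k + 6 := by omega
        rw [h12, hkk, show k + 8 - (k + 6) = 2 by omega]
        ring
    rw [h10] at h9
    rw [show finrank F U - 4 = k + 2 by omega] at h6
    exact num (three_le_card h2) h6 (lt_of_lt_of_le h8 h9)
  refine ⟨fun u hu w hw _ _ => ?_, key⟩
  obtain ⟨x, hx, hxe⟩ := key (sg_mem_EU (Q := Q) hu hw)
  have h3 : x = S Q u w := Subtype.ext (by rw [coe_S]; exact hxe)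
  rw [← h3]
  exact hx

omit [Finite T] [IsSimpleGroup T] in
/-- **(c)** an involution `t' ∈ Ω(U)` of rank two, with a hyperbolic pair of `U` fixed by `t'` -/
theorem exists_two (h2 : (2 : F) ≠ 0) (hQ : Nondeg Q) {U : Submodule F V} (hU : U ⊓ perp Q U = ⊥)
    (hd : 6 ≤ finrank F U) :
    ∃ t : ↥(E Q), (t : V ≃ₗ[F] V) ∈ EU Q U ∧ t * t = 1 ∧ finrank F (Vm t) = 2 ∧ (∀ x ∈ perp Q U, ap t x = x) ∧
      ∃ x ∈ U, ∃ y ∈ U, Hyp Q x y ∧ ap t x = x ∧ ap t y = y := by
  classical
  have hV : Finite V := Module.finite_of_finite F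
  have hc := isCompl_perp hQ hU
  have hn := nondeg_QU hU
  have hG : Good (QU Q U) := Cfsg.Agent.LieClassical.OrthFinite.good_of_finite hn (by omega)
  -- a nonsingular vector
  obtain ⟨a, ha⟩ : ∃ a : U, QU Q U a ≠ 0 := by
    obtain ⟨x, y, hxy⟩ := hG.exists_hyp
    refine ⟨x + y, ?_⟩
    rw [Q_add, hxy.left, hxy.right, hxy.pair, add_zero, zero_add]
    exact one_ne_zero
  have ha0 : a ≠ 0 := by
    rintro rfl
    exact ha (QuadraticMap.map_zero _)
  obtain ⟨b, hb, hbQ⟩ := exists_norm_perp hn (Submodule.span F {a}) (Or.inl (by rw [finrank_span_singleton ha0]; omega))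
    (QU Q U a)
  have hab : polar (QU Q U) a b = 0 := hb a (Submodule.mem_span_singleton_self a)
  have hba : polar (QU Q U) b a = 0 := by rw [polar_comm]; exact hab
  have hbn : QU Q U b ≠ 0 := by rw [hbQ]; exact ha
  have hg : refl (QU Q U) b hbn * refl (QU Q U) a ha ∈ E (QU Q U) := hG.refl_mul_refl_mem ha hbn hbQ.symm
  set g := refl (QU Q U) b hbn * refl (QU Q U) a ha with hgdef
  have hgg : g * g = 1 := by
    have h1 := refl_comm hbn ha hba
    calc g * g = refl (QU Q U) b hbn * (refl (QU Q U) a ha * refl (QU Q U) b hbn) * refl (QU Q U) a ha := by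
          rw [hgdef]; group
      _ = refl (QU Q U) b hbn * (refl (QU Q U) b hbn * refl (QU Q U) a ha) * refl (QU Q U) a ha := by rw [h1]
      _ = (refl (QU Q U) b hbn * refl (QU Q U) b hbn) * (refl (QU Q U) a ha * refl (QU Q U) a ha) := by group
      _ = 1 := by rw [refl_mul_self, refl_mul_self, one_mul]
  have hgx : ∀ x : U, g x = x - ((QU Q U a)⁻¹ * polar (QU Q U) a x) • a - ((QU Q U b)⁻¹ * polar (QU Q U) b x) • b := by
    intro x
    show refl (QU Q U) b hbn (refl (QU Q U) a ha x) = _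
    rw [refl_apply, refl_apply, polar_sub_right, polar_smul_right, hba, smul_zero, sub_zero]
  have hpa : ∀ α β : F, polar (QU Q U) a (α • a + β • b) = 2 * α * QU Q U a := by
    intro α β
    rw [polar_add_right, polar_smul_right, polar_smul_right, hab, polar_self', smul_eq_mul, smul_eq_mul]
    ring
  have hpb : ∀ α β : F, polar (QU Q U) b (α • a + β • b) = 2 * β * QU Q U b := by
    intro α β
    rw [polar_add_right, polar_smul_right, polar_smul_right, hba, polar_self', smul_eq_mul, smul_eq_mul]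
    ring
  have hli : LinearIndependent F ![a, b] := by
    rw [LinearIndependent.pair_iff]
    intro α β h3
    have h4 := hpa α β
    have h5 := hpb α β
    rw [h3, polar_zero_right] at h4 h5
    refine ⟨?_, ?_⟩
    · by_contra h6
      exact mul_ne_zero (mul_ne_zero h2 h6) ha h4.symm
    · by_contra h6
      exact mul_ne_zero (mul_ne_zero h2 h6) hbn h5.symm
  have hspan2 : finrank F (Submodule.span F {a, b}) = 2 := by
    have h3 := finrank_span_eq_card hli
    have h4 : Set.range ![a, b] = {a, b} := by simp [Set.pair_comm]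
    rw [h4] at h3
    simpa using h3
  have hrad : (Submodule.span F {a, b} ⊓ perp (QU Q U) (Submodule.span F {a, b}) : Submodule F U) = ⊥ := by
    rw [eq_bot_iff]
    rintro x ⟨hx1, hx2⟩
    obtain ⟨α, β, rfl⟩ := Submodule.mem_span_pair.1 hx1
    have h4 : polar (QU Q U) a (α • a + β • b) = 0 := hx2 a (Submodule.subset_span (by simp))
    have h5 : polar (QU Q U) b (α • a + β • b) = 0 := hx2 b (Submodule.subset_span (by simp))
    rw [hpa] at h4
    rw [hpb] at h5
    have h6 : α = 0 := by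
      by_contra h7
      exact mul_ne_zero (mul_ne_zero h2 h7) ha h4
    have h7 : β = 0 := by
      by_contra h8
      exact mul_ne_zero (mul_ne_zero h2 h8) hbn h5
    rw [h6, h7, zero_smul, zero_smul, add_zero]
    exact Submodule.zero_mem _
  have hEU : extH hc g ∈ EU Q U := by
    rw [← map_E hc]
    exact ⟨g, hg, rfl⟩
  have hfixg : ∀ x : U, polar (QU Q U) a x = 0 → polar (QU Q U) b x = 0 → g x = x := by
    intro x h3 h4
    rw [hgx, h3, h4]
    simp
  have hgC : ∀ x : U, extH hc g (x : V) = g x := fun x => extL_coe hc g x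
  have hgP : ∀ x ∈ perp Q U, extH hc g x = x := fun x hx => extL_perp hc g hx
  refine ⟨⟨extH hc g, EU_le_E U hEU⟩, hEU, ?_, ?_, hgP, ?_⟩
  · apply Subtype.ext
    show extH hc g * extH hc g = 1
    rw [← map_mul, hgg, map_one]
  · -- the `-1`-space
    have h3 : Vm (⟨extH hc g, EU_le_E U hEU⟩ : ↥(E Q)) = (Submodule.span F {a, b}).map U.subtype := by
      ext v
      rw [mem_Vm]
      show extH hc g v = -v ↔ _
      constructor
      · intro hv
        have h4 : v = (pr hc v : V) + (v - (pr hc v : V)) := by abel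
        have h5 := sub_pr_mem hc v
        have h6 : extH hc g v = g (pr hc v) + (v - (pr hc v : V)) := by
          conv_lhs => rw [h4, map_add, hgC, hgP _ h5]
        have h7 : (pr hc (extH hc g v) : V) = g (pr hc v) := by
          rw [h6, map_add, pr_coe, pr_perp hc h5, add_zero]
        rw [hv, map_neg] at h7
        have h8 : v - (pr hc v : V) = 0 := by
          have h9 : -v = -(pr hc v : V) + (v - (pr hc v : V)) := by
            rw [← hv, h6, ← h7]
            rfl
          have h10 : (2 : F) • (v - (pr hc v : V)) = 0 := by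
            have h11 : (2 : F) • (v - (pr hc v : V)) = (-(pr hc v : V) + (v - (pr hc v : V))) + v := by module
            rw [h11, ← h9, neg_add_cancel]
          exact (smul_eq_zero.1 h10).resolve_left h2
        have h12 : v = (pr hc v : V) := sub_eq_zero.1 h8
        refine ⟨pr hc v, ?_, h12.symm⟩
        have h13 : g (pr hc v) = -(pr hc v) := Subtype.ext h7.symm
        rw [hgx] at h13
        have h14 : (2 : F) • (pr hc v) = ((QU Q U a)⁻¹ * polar (QU Q U) a (pr hc v)) • a +
            ((QU Q U b)⁻¹ * polar (QU Q U) b (pr hc v)) • b := by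
          have h15 : (2 : F) • (pr hc v) = (pr hc v) - (-(pr hc v)) := by module
          rw [h15, ← h13]
          module
        have h16 : (2 : F) • (pr hc v) ∈ Submodule.span F {a, b} := by
          rw [h14]
          exact Submodule.add_mem _ (Submodule.smul_mem _ _ (Submodule.subset_span (by simp)))
            (Submodule.smul_mem _ _ (Submodule.subset_span (by simp)))
        exact (Submodule.smul_mem_iff _ h2).1 h16
      · rintro ⟨x, hx, rfl⟩
        show extH hc g (x : V) = -(x : V)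
        rw [hgC]
        have h4 : g x = -x := by
          obtain ⟨α, β, rfl⟩ := Submodule.mem_span_pair.1 hx
          rw [hgx, hpa, hpb, show (QU Q U a)⁻¹ * (2 * α * QU Q U a) = 2 * α by field_simp,
            show (QU Q U b)⁻¹ * (2 * β * QU Q U b) = 2 * β by field_simp]
          module
        rw [h4]
        rfl
    rw [h3, Submodule.finrank_map_subtype_eq, hspan2]
  · -- a hyperbolic pair
    obtain ⟨x, y, hxy, hx, hy⟩ := exists_hyp_perp_of_rad hn (Submodule.span F {a, b}) (by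
      rw [hspan2, hrad, finrank_bot]
      omega)
    have hax : polar (QU Q U) a x = 0 := hx a (Submodule.subset_span (by simp))
    have hbx : polar (QU Q U) b x = 0 := hx b (Submodule.subset_span (by simp))
    have hay : polar (QU Q U) a y = 0 := hy a (Submodule.subset_span (by simp))
    have hby : polar (QU Q U) b y = 0 := hy b (Submodule.subset_span (by simp))
    refine ⟨x, x.2, y, y.2, ⟨hxy.left, hxy.right, hxy.pair⟩, ?_, ?_⟩
    · show extH hc g (x : V) = x
      rw [hgC, hfixg x hax hbx]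
    · show extH hc g (y : V) = y
      rw [hgC, hfixg y hay hby]

/-- **CLAIM 0.** -/
theorem claim_zero (h2 : (2 : F) ≠ 0) (hG : Good Q) (hN : 8 ≤ finrank F V) (π : ↥(E Q) →* T)
    (hπ : Function.Surjective π) (hker : ∀ g, π g = 1 ↔ g = 1 ∨ ∀ v, ap g v = -v) (h : IF A Γ)
    (hna : ∃ a b : T, a * b ≠ b * a) {t : ↥(E Q)} (htA : t ∈ A.comap π) (ht : t * t = 1)
    (hk : finrank F (Vm t) = 2 ∨ finrank F (Vm t) + 2 = finrank F V) : False := by
  have hc := Cfsg.Agent.H325.IF.isCompl h2 ht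
  have hsum : finrank F (Vm t) + finrank F (Vp t) = finrank F V := Submodule.finrank_add_eq_of_isCompl hc
  obtain ⟨U, hU, hUn⟩ : ∃ U : Submodule F V, ((U = Vp t ∨ U = Vm t) ∧ finrank F U + 2 = finrank F V) ∧
      U ⊓ perp Q U = ⊥ := by
    rcases hk with hk | hk
    · refine ⟨Vp t, ⟨Or.inl rfl, by omega⟩, ?_⟩
      rw [eq_bot_iff]
      rintro x ⟨hx1, hx2⟩
      exact hc.disjoint.le_bot ⟨(Cfsg.Agent.H325.IF.mem_Vm_iff h2 hG.nondeg ht).2 hx2, hx1⟩
    · refine ⟨Vm t, ⟨Or.inr rfl, hk⟩, ?_⟩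
      rw [eq_bot_iff]
      rintro x ⟨hx1, hx2⟩
      exact hc.disjoint.le_bot ⟨hx1, (Cfsg.Agent.H325.IF.mem_Vp_iff h2 hG.nondeg ht).2 hx2⟩
  obtain ⟨hS, hE⟩ := claim_a h2 hG hN π hπ hker h hna htA ht hk hU
  obtain ⟨t', ht'E, ht't', hr, hfix, x, hx, y, hy, hxy, htx, hty⟩ := exists_two h2 hG.nondeg hUn (by omega)
  have ht'A : t' ∈ A.comap π := by
    obtain ⟨z, hz, hze⟩ := hE ht'E
    have h3 : z = t' := Subtype.ext hze
    rw [← h3]
    exact hz
  have hc' := Cfsg.Agent.H325.IF.isCompl h2 ht't'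
  have hsum' : finrank F (Vm t') + finrank F (Vp t') = finrank F V := Submodule.finrank_add_eq_of_isCompl hc'
  obtain ⟨hS', -⟩ := claim_a h2 hG hN π hπ hker h hna ht'A ht't' (Or.inl hr) (U := Vp t') ⟨Or.inl rfl, by omega⟩
  have htop := Cfsg.Agent.H198.IF.end_two hG hxy (perp Q U) U (Vp t')
    (by rw [sup_comm]; exact (isCompl_perp hG.nondeg hUn).sup_eq_top)
    (fun u hu => mem_Vp.2 (hfix u hu)) hx hy (mem_Vp.2 htx) (mem_Vp.2 hty) (fun u hu => hu x hx) (fun u hu => hu y hy)
    (A.comap π) hS hS'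
  apply h.ne_top
  rw [eq_top_iff]
  intro z _
  obtain ⟨g, rfl⟩ := hπ z
  have h3 : g ∈ A.comap π := by rw [htop]; exact Subgroup.mem_top g
  exact h3

end main

end Cfsg.Agent.H178.IFO
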