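import Cfsg.Agent.H178.IFO.MI

/-!
# S5719: the groups `EU Q U ≤ E Q` of nondegenerate subspaces (helper178)

`EU Q U` : generated by the Siegel elements `sg Q u w`, `u, w ∈ U`. It is the image of `E (Q|U)` under the extension by
the identity on `U^⊥`; `mi_sub` : the minimal index.
-/

set_option autoImplicit false

namespace Cfsg.Agent.H178.IFO

open QuadraticMap Cfsg.Agent.LieClassical.OrthCore Cfsg.Agent.LieClassical.OrthTrans Cfsg.Agent.H75.OrthIdx

variable {F V : Type*} [Field F] [AddCommGroup V] [Module F V] {Q : QuadraticForm F V}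

/-- the group generated by the Siegel elements with vectors in `U` -/
noncomputable def EU (Q : QuadraticForm F V) (U : Submodule F V) : Subgroup (V ≃ₗ[F] V) :=
  Subgroup.closure {g | ∃ u ∈ U, ∃ w ∈ U, g = sg Q u w}

theorem EU_le_E (U : Submodule F V) : EU Q U ≤ E Q := by
  rw [EU, Subgroup.closure_le]
  rintro _ ⟨u, -, w, -, rfl⟩
  exact sg_mem_E u w

theorem sg_mem_EU {U : Submodule F V} {u w : V} (hu : u ∈ U) (hw : w ∈ U) : sg Q u w ∈ EU Q U :=
  Subgroup.subset_closure ⟨u, hu, w, hw, rfl⟩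

theorem EU_mono {U U' : Submodule F V} (h : U ≤ U') : EU Q U ≤ EU Q U' := by
  rw [EU, Subgroup.closure_le]
  rintro _ ⟨u, hu, w, hw, rfl⟩
  exact sg_mem_EU (h hu) (h hw)

/-- `EU Q U` is trivial on `U^⊥` -/
theorem EU_fix {U : Submodule F V} {g : V ≃ₗ[F] V} (hg : g ∈ EU Q U) {x : V} (hx : x ∈ perp Q U) : g x = x := by
  induction hg using Subgroup.closure_induction with
  | mem g hg =>
    obtain ⟨u, hu, w, hw, rfl⟩ := hg
    exact sg_fix (hx u hu) (hx w hw)
  | one => rfl
  | mul a b _ _ ha hb =>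
    show a (b x) = x
    rw [hb, ha]
  | inv a _ ha =>
    have h : a⁻¹ (a x) = x := LinearEquiv.symm_apply_apply a x
    rwa [ha] at h

theorem sg_mem_sub {U : Submodule F V} {u w : V} (hu : u ∈ U) (hw : w ∈ U) {x : V} (hx : x ∈ U) : sg Q u w x ∈ U := by
  by_cases h : Q u = 0 ∧ polar Q u w = 0
  · rw [sg_apply h.1 h.2]
    exact U.sub_mem (U.sub_mem (U.add_mem hx (U.smul_mem _ hw)) (U.smul_mem _ hu)) (U.smul_mem _ hu)
  · rw [sg_of_not h]
    exact hx

/-- `EU Q U` leaves `U` invariant -/
theorem EU_mem {U : Submodule F V} {g : V ≃ₗ[F] V} (hg : g ∈ EU Q U) : ∀ x ∈ U, g x ∈ U := by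
  have key : ∀ x ∈ U, g x ∈ U ∧ g⁻¹ x ∈ U := by
    induction hg using Subgroup.closure_induction with
    | mem g hg =>
      obtain ⟨u, hu, w, hw, rfl⟩ := hg
      intro x hx
      refine ⟨sg_mem_sub hu hw hx, ?_⟩
      by_cases h : Q u = 0 ∧ polar Q u w = 0
      · rw [sg_inv h.2]
        exact sg_mem_sub hu (U.neg_mem hw) hx
      · rw [sg_of_not h, inv_one]
        exact hx
    | one => exact fun x hx => ⟨hx, by rw [inv_one]; exact hx⟩
    | mul a b _ _ ha hb =>
      intro x hx
      refine ⟨(ha _ (hb x hx).1).1, ?_⟩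
      rw [mul_inv_rev]
      exact (hb _ (ha x hx).2).2
    | inv a _ ha =>
      intro x hx
      refine ⟨(ha x hx).2, ?_⟩
      rw [inv_inv]
      exact (ha x hx).1
  exact fun x hx => (key x hx).1

/-! ### the extension -/

/-- the restriction of the form -/
def QU (Q : QuadraticForm F V) (U : Submodule F V) : QuadraticForm F U := Q.comp U.subtype

theorem QU_apply (U : Submodule F V) (x : U) : QU Q U x = Q (x : V) := rfl

theorem polar_QU (U : Submodule F V) (x y : U) : polar (QU Q U) x y = polar Q (x : V) (y : V) := rfl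

section ext

variable {U : Submodule F V} (hU : IsCompl U (perp Q U))

/-- the projection onto `U` along `U^⊥` -/
noncomputable def pr : V →ₗ[F] U := U.projectionOnto (perp Q U) hU

theorem pr_coe (x : U) : pr hU (x : V) = x := Submodule.projectionOnto_apply_left hU x

theorem pr_perp {x : V} (hx : x ∈ perp Q U) : pr hU x = 0 := by
  have := Submodule.projectionOnto_apply_right hU ⟨x, hx⟩
  exact this

theorem sub_pr_mem (x : V) : x - (pr hU x : V) ∈ perp Q U := by
  have h1 : pr hU (x - (pr hU x : V)) = 0 := by rw [map_sub, pr_coe, sub_self]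
  have h2 : x - (pr hU x : V) ∈ LinearMap.ker (pr hU) := h1
  rwa [pr, Submodule.ker_projectionOnto] at h2

theorem polar_pr (x : U) (v : V) : polar Q (x : V) v = polar (QU Q U) x (pr hU v) := by
  have h1 := sub_pr_mem hU v x x.2
  rw [polar_sub_right, sub_eq_zero] at h1
  rw [h1, polar_QU]

theorem pr_add (v : V) (y : U) : pr hU (v + ((y - pr hU v : U) : V)) = y := by
  rw [map_add, pr_coe, add_sub_cancel]

/-- extension by the identity on `U^⊥` -/
noncomputable def extL (g : U ≃ₗ[F] U) : V ≃ₗ[F] V where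
  toFun v := v + ((g (pr hU v) - pr hU v : U) : V)
  map_add' v w := by simp only [map_add, Submodule.coe_sub, Submodule.coe_add]; abel
  map_smul' c v := by
    simp only [map_smul, RingHom.id_apply, smul_add, smul_sub, Submodule.coe_sub, Submodule.coe_smul]
  invFun v := v + ((g.symm (pr hU v) - pr hU v : U) : V)
  left_inv v := by
    show v + _ + ((g.symm (pr hU (v + ((g (pr hU v) - pr hU v : U) : V))) -
      pr hU (v + ((g (pr hU v) - pr hU v : U) : V)) : U) : V) = v
    rw [pr_add, LinearEquiv.symm_apply_apply, Submodule.coe_sub, Submodule.coe_sub]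
    abel
  right_inv v := by
    show v + _ + ((g (pr hU (v + ((g.symm (pr hU v) - pr hU v : U) : V))) -
      pr hU (v + ((g.symm (pr hU v) - pr hU v : U) : V)) : U) : V) = v
    rw [pr_add, LinearEquiv.apply_symm_apply, Submodule.coe_sub, Submodule.coe_sub]
    abel

theorem extL_apply (g : U ≃ₗ[F] U) (v : V) : extL hU g v = v + ((g (pr hU v) - pr hU v : U) : V) := rfl

theorem extL_coe (g : U ≃ₗ[F] U) (x : U) : extL hU g (x : V) = g x := by
  rw [extL_apply, pr_coe, Submodule.coe_sub]
  abel

theorem extL_perp (g : U ≃ₗ[F] U) {x : V} (hx : x ∈ perp Q U) : extL hU g x = x := by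
  rw [extL_apply, pr_perp hU hx, map_zero, sub_zero, Submodule.coe_zero, add_zero]

/-- the extension as a homomorphism -/
noncomputable def extH : (U ≃ₗ[F] U) →* (V ≃ₗ[F] V) where
  toFun := extL hU
  map_one' := by
    apply LinearEquiv.ext
    intro v
    rw [extL_apply]
    show v + ((pr hU v - pr hU v : U) : V) = v
    rw [sub_self, Submodule.coe_zero, add_zero]
  map_mul' g h := by
    apply LinearEquiv.ext
    intro v
    show extL hU (g * h) v = extL hU g (extL hU h v)
    rw [extL_apply, extL_apply hU h, map_add, extL_coe, extL_apply]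
    show v + ((g (h (pr hU v)) - pr hU v : U) : V) = _
    simp only [map_sub, Submodule.coe_sub]
    abel

theorem extH_apply (g : U ≃ₗ[F] U) : extH hU g = extL hU g := rfl

theorem extH_siegel {u w : U} (hu : QU Q U u = 0) (hw : polar (QU Q U) u w = 0) :
    extH hU (siegel (QU Q U) u w hu hw) = sg Q (u : V) (w : V) := by
  apply LinearEquiv.ext
  intro v
  rw [extH_apply, extL_apply, siegel_apply, sg_apply (show Q (u : V) = 0 from hu) (show polar Q (u : V) w = 0 from hw),
    polar_pr hU u v, polar_pr hU w v, QU_apply]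
  simp only [Submodule.coe_sub, Submodule.coe_add, Submodule.coe_smul]
  abel

theorem map_E : (E (QU Q U)).map (extH hU) = EU Q U := by
  apply le_antisymm
  · rw [E, MonoidHom.map_closure, Subgroup.closure_le]
    rintro _ ⟨_, ⟨u, w, hu, hw, rfl⟩, rfl⟩
    rw [extH_siegel hU hu hw]
    exact sg_mem_EU u.2 w.2
  · rw [EU, Subgroup.closure_le]
    rintro _ ⟨u, hu, w, hw, rfl⟩
    by_cases h : Q u = 0 ∧ polar Q u w = 0
    · refine ⟨siegel (QU Q U) ⟨u, hu⟩ ⟨w, hw⟩ h.1 h.2, siegel_mem_E _ _, extH_siegel hU _ _⟩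
    · rw [sg_of_not h]
      exact Subgroup.one_mem _

end ext

theorem nondeg_QU {U : Submodule F V} (hU : U ⊓ perp Q U = ⊥) : Nondeg (QU Q U) := by
  intro x hx
  have h1 : (x : V) ∈ U ⊓ perp Q U := by
    refine ⟨x.2, fun y hy => ?_⟩
    rw [polar_comm]
    exact hx ⟨y, hy⟩
  rw [hU, Submodule.mem_bot] at h1
  exact Subtype.ext h1

section fin

variable [FiniteDimensional F V]

theorem isCompl_perp (hQ : Nondeg Q) {U : Submodule F V} (hU : U ⊓ perp Q U = ⊥) : IsCompl U (perp Q U) := by
  refine ⟨disjoint_iff.2 hU, ?_⟩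
  rw [codisjoint_iff]
  apply Submodule.eq_top_of_finrank_eq
  have h1 := Submodule.finrank_sup_add_finrank_inf_eq U (perp Q U)
  have h2 := finrank_perp_add hQ U
  rw [hU, finrank_bot] at h1
  omega

/-- **the minimal index of `EU Q U`** -/
theorem mi_sub [Finite F] (hQ : Nondeg Q) (h2 : (2 : F) ≠ 0) {U : Submodule F V} (hU : U ⊓ perp Q U = ⊥)
    (hd : 6 ≤ Module.finrank F U) {H : Subgroup (V ≃ₗ[F] V)} (hH : ¬ EU Q U ≤ H) :
    (Nat.card F - 1) * Nat.card F ^ (Module.finrank F U - 4) ≤ H.relIndex (EU Q U) := by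
  have hc := isCompl_perp hQ hU
  have hG : Good (QU Q U) := Cfsg.Agent.LieClassical.OrthFinite.good_of_finite (nondeg_QU hU) (by omega)
  have h1 := mi hG hd h2 (H := H.comap (extH hc)) (by
    intro h
    apply hH
    rw [← map_E hc, Subgroup.map_le_iff_le_comap]
    exact h)
  rwa [Subgroup.relIndex_comap, map_E hc] at h1

end fin

end Cfsg.Agent.H178.IFO
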